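import Cfsg.Agent.SPOR.Co2.B5

/-!
The members of the class in the image of `A` are the 77 hexads.
-/

set_option autoImplicit false
set_option linter.dupNamespace false
set_option maxRecDepth 100000
set_option exponentiation.threshold 2100
set_option linter.unusedSectionVars false

namespace CL.Co2U

open Cfsg CL.K CL.CG CL.Reg CL.A10 CL.LX CL.MSS CL.F2M CL.Co1T CL.Co1T.XQ CL.LE Subgroup
open CL.CE hiding gen rowOf
open Function (Injective)

attribute [local irreducible] cd mu on ac

/-- the orbits of `B0` on masks -/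
def TT : ℕ := 0x9889988989989889989898989898898956777777567777777777657777775677777777777777777765776577776577568989988989898998899898988998898989988998988989989898898998989898775677777756777777775677777765777777777777777777776556776577776589898998898998899889898998899898989898989889899898899889898998986577777777775677777756775677777765776577777777777777777777567765989889988998898998898989898989987777777777565677657777567777777798899898898989989898899889989898988998898989898998988989988989987777776556777777657777777777776577777756776577777777657765777777898989898998988989899898899889987777776556777777777756777756777798989898988998899898898998898998898998898998989889899889988989897777777777656577777777777765567798988998899889899898899898899898777777777756775677777777775677658998898989988989899898989889898977777777777765567777656577777777988998988998989898898989988998987777777777777777777756567777566598898989988989899889898989989898777777777777566577777777777765654334343434433434433434344334434322222222222222222222222222222210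
/-- their representatives -/
def RP : List ℕ := [0, 1, 2, 32, 33, 64, 65, 68, 96, 97]

theorem exists_rep {m : ℕ} (hm : m < 1024) : ∃ g ∈ B0, g * bA (lget RP (fld 4 15 TT m)) * g⁻¹ = bA m := by
  obtain ⟨h0, h1⟩ := (by decide +kernel : ∀ m < 1024, fld 4 15 TT m < 10 ∧ lget RP (fld 4 15 TT m) < 2048) m hm
  obtain ⟨S, n, h2, h3⟩ := orbM_spec (XK_sub (by decide) kk_B0) h1
    (k := fun S _ => allLt2 (fun m' => inMask S m' || !Nat.beq (fld 4 15 TT m') (fld 4 15 TT m)) 32 32)
    ((by decide +kernel : ∀ i < 10, orbM ([0, 1, 2, 3, 4, 6, 8].map (lget XK)) (lget RP i)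
      (fun S _ => allLt2 (fun m' => inMask S m' || !Nat.beq (fld 4 15 TT m') i) 32 32) = true) _ h0)
  have := allLt2_iff.1 h2 m hm
  rw [Nat.beq_refl, Bool.not_true, Bool.or_false] at this
  exact (h3 m (inMask_spec this)).2

variable {G : Type*} [Group G] [Finite G] {φ : Q →* G} {D : Set G} {P : G → Subgroup G} {t x : G}

namespace Cs

variable {θ : C1 → G} (h : Cs D P t x φ θ)
include h

theorem rep {m : ℕ} (hm : m < 1024) : θ (bA m) ∈ D ↔ θ (bA (lget RP (fld 4 15 TT m))) ∈ D := by
  obtain ⟨g, hg, e⟩ := exists_rep hm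
  rw [← e, h.hom.conj (B0_le_H0 hg) (bA_H0 ((by decide +kernel : ∀ m < 1024,
    lget RP (fld 4 15 TT m) < 1024) m hm))]
  exact ⟨fun k => by simpa [mul_assoc] using h.wc.conj k (θ g)⁻¹, fun k => h.wc.conj k _⟩

theorem θ_z {m : ℕ} (hm : m < 1024) : θ (bA (1 ^^^ m)) = t * θ (bA m) := by
  rw [h.θ_xor (by norm_num) hm, bA_one, h.θz]

theorem pr {m : ℕ} (hm : m < 1024) (h1 : m ≠ 1) (hd : θ (bA m) ∈ D) : Pr D t (θ (bA m)) :=
  ⟨h.xp.zD, hd, (h.comm (bA_H0 hm)).symm, fun e => h1 (bA_inj (by omega) (by norm_num)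
    (bA_one ▸ h.ch.eq (bA_H0 hm) zz_H0 (e.symm.trans h.θz.symm)))⟩

theorem E_comm {m : ℕ} (hm : m < 1024) : ∀ u ∈ E0, φ u * θ (bA m) = θ (bA m) * φ u := fun _ hu =>
  (NΦ_comm' (h.gr _ (bA_H0 hm)) (A0_comm (bA_A0 m) hu)).symm

theorem a2_of {m : ℕ} (hm : m < 1024) (h1 : m ≠ 1) (hd : θ (bA m) ∈ D)
    (hs : czB m (RG.mk' Q_good 8) = true) : A2 D P t (θ (bA m)) := by
  rcases h.wc.pair (h.pr hm h1 hd) with k | k | k
  · exact k
  · exact absurd (mem_E0.1 ((h.toSt.of_xp k.2 (h.E_comm hm)).ns (h.gr _ (bA_H0 hm)) _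
      ((czB_iff (by omega)).1 hs))) (by decide +kernel)
  · exact absurd k.1 (by decide)

theorem not_of {m : ℕ} (hm : m < 1024) (h1 : m ≠ 1) (n1 : NS (bA m)) (n2 : NS (bA 544))
    (n3 : NS (bA (544 ^^^ m))) : θ (bA m) ∉ D := fun hd => by
  rcases h.wc.pair (h.pr hm h1 hd) with k | k | k
  · have := card_le_of_le (show CQ P t (θ (bA m)) ≤ CQ P t x from fun y hy => by
      obtain ⟨u, rfl⟩ := h.toSt.exists_u hy.1
      exact h.toSt.mem_F.2 ⟨u, n1 u (.inl (mul_inv_eq_of_eq_mul
        (NΦ_comm2 h.inj (h.gr _ (bA_H0 hm)) (mem_CQ.1 hy).2.symm).symm)), rfl⟩)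
    rw [h.wc.a2_card k, h.xp.left.card] at this
    norm_num at this
  · have s := h.toSt.of_xp k.2 (h.E_comm hm)
    have : s.A1 = A := eq_of_le_of_card_ge (le_inf ((map_mono inf_le_left).trans
      (h.e.le.trans inf_le_left)) s.A1_le) (by rw [card_A, s.card_A1])
    exact s.not_mem_A1 (h.gr _ (bA_H0 hm)) (bA_A0 544) n2 (bA_xor 544 m ▸ n3)
      (this.ge (bA_A (by norm_num)))
  · exact absurd k.1 (by decide)

theorem t0_mem : θ (bA 64) ∈ D := by
  have H := h.gr _ (bA_H0 (m := 130) (by norm_num))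
  obtain ⟨r, hr, k⟩ := F_cases h.wc h.xp (mem_CQ.2 ⟨h.mem_P, h.comm (bA_H0 (by norm_num))⟩)
  rcases k with k | k
  · have := h.wc.mul_cc_mem h.xp.zD r
    rw [← k, ← h.θ_z (by norm_num), h.rep (by decide),
      show lget RP (fld 4 15 TT (1 ^^^ 130)) = 64 by decide +kernel] at this
    exact this
  · obtain ⟨y, hy, y1, y2⟩ := cc_sing h.wc h.xp hr
    obtain ⟨u, rfl⟩ := h.toSt.exists_u hy
    have := mul_mem H h.H
    rw [Prod.mk_mul_mk, k, mul_assoc _ x, h.wc.toLF.sq h.xp.tD, mul_one, x0, ← bA_xor] at this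
    exact absurd ((h.E u).2 (ns_of (m := 130 ^^^ 32) (by decide) (by decide +kernel) u
      (.inl (mul_inv_eq_of_eq_mul (NΦ_comm2 h.inj this y2.symm).symm)))) y1

theorem hD {m : ℕ} (hm : m < 1024) : θ (bA m) ∈ D ↔ S77.testBit m = true := by
  have p := h.a2_of (by norm_num) (by norm_num) h.t0_mem (by decide +kernel)
  have n : NS (bA 544) := ns_of (by norm_num) (by decide +kernel)
  have y : ∀ k ∈ [1, 32, 64], θ (bA k) ∈ D := by
    simp only [List.forall_mem_cons]
    exact ⟨by rw [bA_one, h.θz]; exact h.xp.zD, h.θx.symm ▸ h.xp.tD, h.t0_mem, nofun⟩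
  have o : ∀ k ∈ [0, 2, 33, 65, 68, 96, 97], θ (bA k) ∉ D := by
    simp only [List.forall_mem_cons]
    refine ⟨fun k => h.wc.ne_one k (by rw [bA_zero, h.hom.one]), fun k => ?_, fun k => ?_, fun k => ?_,
      fun k => ?_, h.not_of (by norm_num) (by norm_num) (ns_of (by norm_num) (by decide +kernel)) n
        (ns_of (by decide) (by decide +kernel)), h.not_of (by norm_num) (by norm_num)
        (ns_of (by norm_num) (by decide +kernel)) n (ns_of (by decide) (by decide +kernel)), nofun⟩
    · obtain ⟨u, -, e⟩ := bA_E0 (m := 2) (by norm_num)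
      exact (h.pr (by norm_num) (by norm_num) k).ne
        (h.wc.wc h.xp.zD k (by rw [← e, h.q]; exact h.toSt.mem u)).symm
    · refine h.toSt.mul_not_mem h.H h.e ?_
      rwa [show 33 = 1 ^^^ 32 by decide, h.θ_z (by norm_num), ← x0, h.θx, h.xp.comm] at k
    · exact h.wc.a2_not_mem p (h.θ_z (m := 64) (by norm_num) ▸ k)
    · obtain ⟨u, -, e⟩ := bA_E0 (m := 4) (by norm_num)
      have e' : θ (bA 68) = θ (bA 64) * φ u := by
        rw [← h.q, e]; exact h.θ_xor (a := 64) (b := 4) (by norm_num) (by norm_num)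
      obtain ⟨q, hq, c⟩ := h.wc.a2_coset p (h.toSt.mem u) (e' ▸ k)
        (e' ▸ h.a2_of (by norm_num) (by norm_num) k (by decide +kernel))
      obtain ⟨v, rfl⟩ := h.toSt.exists_u hq
      rw [← e', ← h.q, ← h.hom.conj (ι_H0 v) (bA_H0 (by norm_num))] at c
      have := h.ch.eq (mul_mem (mul_mem (ι_H0 v) (bA_H0 (by norm_num))) (inv_mem (ι_H0 v)))
        (bA_H0 (by norm_num)) c
      rw [conj_ι v (by norm_num)] at this
      exact (by decide +kernel : ∀ v : Q, lw XQ9 (Q_dat.W v.val) 64 ≠ 68) v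
        (bA_inj (lw_lt (by norm_num)) (by norm_num) this)
  rw [h.rep hm]
  rcases (by decide +kernel : ∀ m < 1024, (lget RP (fld 4 15 TT m) ∈ [1, 32, 64] ∧ S77.testBit m = true) ∨
    (lget RP (fld 4 15 TT m) ∈ [0, 2, 33, 65, 68, 96, 97] ∧ ¬ S77.testBit m = true)) m hm with k | k
  exacts [iff_of_true (y _ k.1) k.2, iff_of_false (o _ k.1) k.2]

end Cs

theorem Hyp.exists_Ch (h : Hyp D P t x) : ∃ θ, Ch D P θ ∧ θ zz = t ∧
    ∀ m < 1024, θ (bA m) ∈ D ↔ S77.testBit m = true := by
  obtain ⟨φ, θ, h⟩ := h.exists_Cs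
  exact ⟨θ, h.ch, h.θz, fun _ => h.hD⟩

end CL.Co2U
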